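import Groth.Agent.CurveCohLib.PointTwist
import Groth.Agent.CurveCohLib.Nonspecial
import Groth.Agent.Lib.CurveDuality
import Groth.Agent.Lib.CurveSSVanish

/-!
Twisting by a general point of a curve lowers `h⁰` and, upwards, `h¹`.
-/

set_option linter.style.haveILetI false
set_option linter.unusedSectionVars false
set_option backward.isDefEq.respectTransparency false
set_option backward.isDefEq.respectTransparency.types false
set_option synthInstance.maxHeartbeats 100000

noncomputable section

universe u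

open CategoryTheory CategoryTheory.Limits AlgebraicGeometry TopologicalSpace Opposite
open Groth.Agent.PnCoh.Finite (mapLin)

namespace Groth.Agent.ThetaRankTwo

open Groth.Agent.CurveBundle Groth.Agent.CurveSlope Groth.Agent.CurveStable Groth.Agent.CurveSpecial
open Groth.Agent.CurvePoint (ptMod ptIdeal)

variable {X : Scheme.{u}}

theorem commIso_natural {M M' : X.Modules} (f : M ⟶ M') (N : X.Modules) :
    (DCoh.tensorBi.map f).app N ≫ (CurveTensor.commIso M' N).hom =
      (CurveTensor.commIso M N).hom ≫ (DCoh.tensorBi.obj N).map f := by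
  simp only [CurveTensor.commIso, Functor.mapIso_hom]
  show DCoh.shP.map _ ≫ DCoh.shP.map _ = DCoh.shP.map _ ≫ DCoh.shP.map _
  rw [← Functor.map_comp, ← Functor.map_comp]
  exact congrArg DCoh.shP.map (BraidedCategory.braiding_naturality_left (DCoh.toP.map f) (DCoh.toP.obj N))

variable (p : X) (hp : IsClosed ({p} : Set X))

/-- The inclusion `M(-p) ⟶ M`, natural in `M`. -/
def eta : DCoh.tensorBi.obj (ptMod p hp) ⟶ 𝟭 X.Modules :=
  DCoh.tensorBi.map (ClSub.idealModι (ptIdeal p hp)) ≫ (CurveRR.tensorStructureIso' X).hom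

/-- The inclusion `M(-p) ⟶ M`. -/
def etaAt (M : X.Modules) : (DCoh.tensorBi.obj (ptMod p hp)).obj M ⟶ M := (eta p hp).app M

theorem eta_natural {M N : X.Modules} (f : M ⟶ N) :
    (DCoh.tensorBi.obj (ptMod p hp)).map f ≫ etaAt p hp N = etaAt p hp M ≫ f :=
  (eta p hp).naturality f

/-- The evaluation sequence of a bundle at a point. -/
theorem shortExact_eta [IsIntegral X] {M : X.Modules} (hM : FlatMod.IsFinLocFree M) :
    ∃ (π : M ⟶ (DCoh.tensorBi.obj M).obj (ClSub.quotMod (ptIdeal p hp)))
      (w : etaAt p hp M ≫ π = 0), (ShortComplex.mk (etaAt p hp M) π w).ShortExact := by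
  have hS := CurveTensor.shortExact_tensor hM _ _ _ (CurvePoint.shortExact_pt p hp)
  let u : (DCoh.tensorBi.obj M).obj (Coh.structureModule X) ≅ M :=
    CurveTensor.commIso M (Coh.structureModule X) ≪≫ (CurveRR.tensorStructureIso' X).app M
  have h1 : etaAt p hp M = (CurveTensor.commIso (ptMod p hp) M).hom ≫
      (DCoh.tensorBi.obj M).map (ClSub.idealModι (ptIdeal p hp)) ≫ u.hom := by
    rw [← Category.assoc, ← commIso_natural (ClSub.idealModι (ptIdeal p hp)) M]
    show (DCoh.tensorBi.map _).app M ≫ (CurveRR.tensorStructureIso' X).hom.app M = _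
    rw [Category.assoc]
    congr 1
    show _ = (CurveTensor.commIso (Coh.structureModule X) M).hom ≫
      (CurveTensor.commIso M (Coh.structureModule X)).hom ≫ (CurveRR.tensorStructureIso' X).hom.app M
    rw [← Category.assoc]
    refine (Category.id_comp _).symm.trans (congrArg (· ≫ _) ?_)
    simp only [CurveTensor.commIso, Functor.mapIso_hom]
    show _ = DCoh.shP.map _ ≫ DCoh.shP.map _
    rw [← Functor.map_comp, SymmetricCategory.symmetry]
    exact (CategoryTheory.Functor.map_id DCoh.shP _).symm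
  refine ⟨u.inv ≫ (DCoh.tensorBi.obj M).map (ClSub.toSubscheme (ptIdeal p hp)), ?_, ?_⟩
  · rw [h1]
    have h0 : ClSub.idealModι (ptIdeal p hp) ≫ ClSub.toSubscheme (ptIdeal p hp) = 0 := kernel.condition _
    simp [← Functor.map_comp, h0]
  · exact ShortComplex.shortExact_of_iso (S₁ := ShortComplex.mk _ _ _)
      (ShortComplex.isoMk (CurveTensor.commIso (ptMod p hp) M).symm u (Iso.refl _)
        (by simp [h1]) (by simp)) hS

variable (k : Type u) [Field k] [IsAlgClosed k] [X.Over (Spec (CommRingCat.of k))]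
  [IsIntegral X] [IsProper (X ↘ Spec (CommRingCat.of k))] [Smooth (X ↘ Spec (CommRingCat.of k))]

theorem injective_eta {M : X.Modules} (hM : FlatMod.IsFinLocFree M) (n : Coh.HH X ((DCoh.tensorBi.obj (ptMod p hp)).obj M) 0)
    (n' : Coh.HH X ((DCoh.tensorBi.obj (ptMod p hp)).obj M) 0)
    (h : mapLin k (etaAt p hp M) 0 n = mapLin k (etaAt p hp M) 0 n') : n = n' := by
  obtain ⟨π, w, hS⟩ := shortExact_eta p hp hM
  exact CurveCohLib.mapLin_f_zero_injective k hS h

include k in
/-- A map factoring through `L(-p) ⟶ L` is not onto at `p`. -/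
theorem not_surjective {A L : X.Modules} (hL : PicF.IsInvertible L)
    (ψ : A ⟶ (DCoh.tensorBi.obj (ptMod p hp)).obj L) :
    ¬ Function.Surjective ((DerSch.stalkFunctor X p).map (ψ ≫ etaAt p hp L)) := by
  intro h
  haveI := CurveCohLib.isNoetherian_of_proper (k := k) (X := X)
  have hL1 := InvEnd.isFinLocFreeOfRank_one hL
  have hLf := isFinLocFree_of_rank hL1
  obtain ⟨π, w, hS⟩ := shortExact_eta p hp hLf
  let F := DerSch.stalkFunctor X p
  haveI : Epi π := hS.epi_g
  have hsurjπ : Function.Surjective (F.map π) := (ModuleCat.epi_iff_surjective _).1 inferInstance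
  have hzero : Subsingleton (((DCoh.tensorBi.obj L).obj (ClSub.quotMod (ptIdeal p hp))).presheaf.stalk p) := by
    refine subsingleton_of_forall_eq 0 fun z => ?_
    obtain ⟨y, rfl⟩ := hsurjπ z
    obtain ⟨a, rfl⟩ := h y
    refine (ConcreteCategory.congr_hom (F.map_comp (ψ ≫ etaAt p hp L) π).symm a).trans ?_
    rw [Category.assoc, w, comp_zero, Functor.map_zero]
    rfl
  have hz : IsZero ((DCoh.tensorBi.obj L).obj (ClSub.quotMod (ptIdeal p hp))) :=
    CurveCohLib.isZero_of_subsingleton_stalks fun x => by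
      by_cases hx : x = p
      · subst hx; exact hzero
      · exact not_not.1 fun hs => hx (Set.mem_singleton_iff.1
          (CurvePoint.support_quot_subset p hp (CurveTensor.support_tensor_subset hs)))
  have h1 := CurveTensor.euler_tensor_torsion k hL1 (CurvePoint.isCoh_quot p hp k) (CurvePoint.closed_support p hp)
  rw [CurvePoint.euler_quot p hp k, euler_eq_zero_of_isZero k hz] at h1
  norm_num at h1

include k in
/-- A nonzero map to an invertible module is onto away from finitely many points. -/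
theorem exists_finite_nonsurj (hdim : topologicalKrullDim X = 1) {V L : X.Modules}
    (hV : FlatMod.IsFinLocFree V) (hL : PicF.IsInvertible L) (φ : V ⟶ L) (hφ : φ ≠ 0) :
    ∃ Z : Set X, Z.Finite ∧ ∀ x ∉ Z, Function.Surjective ((DerSch.stalkFunctor X x).map φ) := by
  haveI := CurveCohLib.isNoetherian_of_proper (k := k) (X := X)
  have hL1 := InvEnd.isFinLocFreeOfRank_one hL
  have hLf := isFinLocFree_of_rank hL1
  obtain ⟨I, π, j, hj, hπ, hfac, hK, hI, -, -, hpos, hle⟩ := exists_decomp k hdim.le hV hLf φ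
  haveI := hj
  haveI := hπ
  have hLc := coh_of_free k hLf
  have hTc : Coh.IsCoh (cokernel j) := QCoh.isCoh_cokernel (coh_of_free k hI).1 hLc j
  have hT0 : rk (cokernel j) = 0 := by
    have h2 := rk_add_coh k _ _ _ (shortExact_cokernel_of_mono j) hLc
    have := hpos hφ
    rw [rk_eq hL1] at hle h2
    omega
  have hTcl : ∀ x ∈ CohB1.support (cokernel j), IsClosed ({x} : Set X) := fun x hx => by
    by_contra hxc
    obtain rfl := CurveCohLib.eq_genericPoint_of_not_isClosed hdim hxc
    letI := (isField_stalk_generic (X := X)).toField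
    haveI := finite_stalk_of_coh hTc (genericPoint X)
    exact hx (Module.finrank_zero_iff.1 hT0)
  refine ⟨CohB1.support (cokernel j),
    CurveCohLib.finite_of_closedPoints (QCoh.isClosed_support_of_isFT hTc.1 hTc.2) hTcl, fun x hx => ?_⟩
  haveI : Subsingleton ((DerSch.stalkFunctor X x).obj (cokernel j)) := not_not.1 hx
  haveI : Epi ((DerSch.stalkFunctor X x).map j) := Preadditive.epi_of_isZero_cokernel _
    ((ModuleCat.isZero_of_subsingleton ((DerSch.stalkFunctor X x).obj (cokernel j))).of_iso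
      (PreservesCokernel.iso (DerSch.stalkFunctor X x) j).symm)
  rw [← hfac, Functor.map_comp]
  exact (ModuleCat.epi_iff_surjective _).1 inferInstance

theorem homOfClass_mapLin {P Q : X.Modules} (f : P ⟶ Q) (t : Coh.HH X P 0) :
    homOfClass (mapLin k f 0 t) = homOfClass t ≫ f := by
  refine CurveRR.hom_ext_one ?_
  rw [homOfClass_one]
  refine Eq.trans ?_ (congrArg (f.app ⊤) (homOfClass_one t)).symm
  exact (Sheaf.H.equiv₀_naturality isTerminalTop ((QCoh.toAbFunctor X).map f) t).symm

/-- A section of an invertible module vanishes at finitely many points only. -/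
theorem exists_finite_zeros (hdim : topologicalKrullDim X = 1) {L : X.Modules} (hL : PicF.IsInvertible L)
    {t : Coh.HH X L 0} (ht : t ≠ 0) :
    ∃ Z : Set X, Z.Finite ∧ ∀ (q : X) (hq : IsClosed ({q} : Set X)), q ∉ Z →
      ∀ u, mapLin k (etaAt q hq L) 0 u ≠ t := by
  obtain ⟨Z, hZ, hsur⟩ := exists_finite_nonsurj k hdim
    (isFinLocFree_of_rank (InvEnd.isFinLocFreeOfRank_one CurveDeg.isInvertible_structureModule))
    hL _ (homOfClass_ne_zero ht)
  refine ⟨Z, hZ, fun q hq hqZ u hu => ?_⟩
  subst hu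
  refine not_surjective q hq k hL (homOfClass u) ?_
  exact (congrArg (fun φ => Function.Surjective ((DerSch.stalkFunctor X q).map φ))
    (homOfClass_mapLin k (etaAt q hq L) u)).mp (hsur q hqZ)

omit [IsAlgClosed k] in
/-- Rank inequalities in a ladder of two left exact sequences with injective rungs. -/
theorem finrank_ladder {A B C A' B' C' : Type u} [AddCommGroup A] [AddCommGroup B] [AddCommGroup C]
    [AddCommGroup A'] [AddCommGroup B'] [AddCommGroup C'] [Module k A] [Module k B] [Module k C]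
    [Module k A'] [Module k B'] [Module k C'] [Module.Finite k A] [Module.Finite k B] [Module.Finite k C]
    [Module.Finite k B'] (f : A →ₗ[k] B) (g : B →ₗ[k] C) (f' : A' →ₗ[k] B') (g' : B' →ₗ[k] C')
    (hf : Function.Injective f) (hex : LinearMap.ker g = LinearMap.range f)
    (hf' : Function.Injective f') (hex' : LinearMap.ker g' = LinearMap.range f')
    (b : B' →ₗ[k] B) (c : C' →ₗ[k] C) (hc : Function.Injective c) (hsq : ∀ x, g (b x) = c (g' x))
    (hA : Module.finrank k A' < Module.finrank k A) :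
    Module.finrank k B' + 1 ≤ Module.finrank k B ∧
      ((∃ y ∈ LinearMap.range g, ∀ u, c u ≠ y) → Module.finrank k B' + 2 ≤ Module.finrank k B) := by
  have h1 := LinearMap.finrank_range_add_finrank_ker g
  have h2 := LinearMap.finrank_range_add_finrank_ker g'
  rw [hex, LinearMap.finrank_range_of_inj hf] at h1
  rw [hex', LinearMap.finrank_range_of_inj hf'] at h2
  have hmap : Submodule.map c (LinearMap.range g') ≤ LinearMap.range g := by
    rintro _ ⟨_, ⟨v, rfl⟩, rfl⟩
    exact ⟨b v, hsq v⟩
  have he := (Submodule.equivMapOfInjective c hc (LinearMap.range g')).finrank_eq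
  refine ⟨?_, fun ⟨y, hy, hyu⟩ => ?_⟩
  · have := Submodule.finrank_mono hmap
    omega
  · have := Submodule.finrank_lt_finrank_of_lt (lt_of_le_of_ne hmap fun heq => by
      obtain ⟨u, -, hu⟩ := heq.symm ▸ hy
      exact hyu u hu)
    omega

/-- A section not in the image of `L(-q)` makes the sections drop. -/
theorem finrank_twist_lt {L : X.Modules} (hL : PicF.IsInvertible L) (q : X) (hq : IsClosed ({q} : Set X))
    (t : Coh.HH X L 0) (ht : ∀ u, mapLin k (etaAt q hq L) 0 u ≠ t) :
    Module.finrank k (Coh.HH X ((DCoh.tensorBi.obj (ptMod q hq)).obj L) 0) <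
      Module.finrank k (Coh.HH X L 0) := by
  haveI := CurveCohLib.isNoetherian_of_proper (k := k) (X := X)
  have hLf := isFinLocFree_of_rank (InvEnd.isFinLocFreeOfRank_one hL)
  haveI := CurveCohLib.finite_HH (k := k) (coh_of_free k hLf) 0
  rw [← LinearMap.finrank_range_of_inj
    (show Function.Injective (mapLin k (etaAt q hq L) 0) from fun a b => injective_eta q hq k hLf a b)]
  exact Submodule.finrank_lt fun h => by
    obtain ⟨u, hu⟩ := h.symm ▸ (Submodule.mem_top : t ∈ (⊤ : Submodule k _))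
    exact ht u hu

set_option maxHeartbeats 1600000 in
/-- Twisting down by a general point in an extension of line bundles. -/
theorem exists_finite_drop (hdim : topologicalKrullDim X = 1) {N V Q : X.Modules} (f : N ⟶ V) (g : V ⟶ Q)
    (w : f ≫ g = 0) (hS : (ShortComplex.mk f g w).ShortExact)
    (hN : PicF.IsInvertible N) (hV : FlatMod.IsFinLocFree V) (hQ : PicF.IsInvertible Q)
    (h0 : Module.finrank k (Coh.HH X N 0) ≠ 0) :
    ∃ Z : Set X, Z.Finite ∧ ∀ (q : X) (hq : IsClosed ({q} : Set X)), q ∉ Z →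
      Module.finrank k (Coh.HH X ((DCoh.tensorBi.obj (ptMod q hq)).obj V) 0) + 1 ≤
          Module.finrank k (Coh.HH X V 0) ∧
        (Module.finrank k (Coh.HH X N 0) < Module.finrank k (Coh.HH X V 0) →
          Module.finrank k (Coh.HH X ((DCoh.tensorBi.obj (ptMod q hq)).obj V) 0) + 2 ≤
            Module.finrank k (Coh.HH X V 0)) := by
  haveI := CurveCohLib.isNoetherian_of_proper (k := k) (X := X)
  have hNf := isFinLocFree_of_rank (InvEnd.isFinLocFreeOfRank_one hN)
  have hQf := isFinLocFree_of_rank (InvEnd.isFinLocFreeOfRank_one hQ)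
  haveI := CurveCohLib.finite_HH (k := k) (coh_of_free k hNf) 0
  haveI := CurveCohLib.finite_HH (k := k) (coh_of_free k hV) 0
  haveI := CurveCohLib.finite_HH (k := k) (coh_of_free k hQf) 0
  haveI : Nontrivial (Coh.HH X N 0) := Module.nontrivial_of_finrank_pos (R := k) (Nat.pos_of_ne_zero h0)
  obtain ⟨t₁, ht₁⟩ := exists_ne (0 : Coh.HH X N 0)
  obtain ⟨Z₁, hZ₁, hz₁⟩ := exists_finite_zeros k hdim hN ht₁
  have hfi := CurveCohLib.mapLin_f_zero_injective k hS
  have hex := CurveCohLib.ker_mapLin_g k hS 0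
  dsimp only at hfi hex
  obtain ⟨Z₂, hZ₂, hz₂⟩ : ∃ Z : Set X, Z.Finite ∧ ∀ (q : X) (hq : IsClosed ({q} : Set X)), q ∉ Z →
      (Module.finrank k (Coh.HH X N 0) < Module.finrank k (Coh.HH X V 0) →
        ∃ y ∈ LinearMap.range (mapLin k g 0), ∀ u, mapLin k (etaAt q hq Q) 0 u ≠ y) := by
    by_cases hr : ∀ x, mapLin k g 0 x = 0
    · refine ⟨∅, Set.finite_empty, fun _ _ _ h => absurd h ?_⟩
      rw [← LinearMap.finrank_range_of_inj hfi, ← hex,
        show LinearMap.ker (mapLin k g 0) = ⊤ from eq_top_iff.2 fun x _ => LinearMap.mem_ker.2 (hr x), finrank_top]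
      exact lt_irrefl _
    · push Not at hr
      obtain ⟨x, hx⟩ := hr
      obtain ⟨Z, hZ, hz⟩ := exists_finite_zeros k hdim hQ hx
      exact ⟨Z, hZ, fun q hq hqZ _ => ⟨_, ⟨x, rfl⟩, hz q hq hqZ⟩⟩
  refine ⟨Z₁ ∪ Z₂, hZ₁.union hZ₂, fun q hq hqZ => ?_⟩
  rw [Set.mem_union, not_or] at hqZ
  have hIf := isFinLocFree_of_rank (InvEnd.isFinLocFreeOfRank_one (CurvePoint.isInvertible_ptMod q hq k hdim))
  have hS' := CurveTensor.shortExact_tensor hIf f g w hS
  haveI := CurveCohLib.finite_HH (k := k) (coh_of_free k (KFlatLib.isFinLocFree_tensor hIf hV)) 0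
  have hfi' := CurveCohLib.mapLin_f_zero_injective k hS'
  have hex' := CurveCohLib.ker_mapLin_g k hS' 0
  dsimp only at hfi' hex'
  have key := finrank_ladder k (mapLin k f 0) (mapLin k g 0)
    (mapLin k ((DCoh.tensorBi.obj (ptMod q hq)).map f) 0) (mapLin k ((DCoh.tensorBi.obj (ptMod q hq)).map g) 0)
    hfi hex hfi' hex'
    (mapLin k (etaAt q hq V) 0) (mapLin k (etaAt q hq Q) 0)
    (fun a b => injective_eta q hq k hQf a b)
    (fun x => ((FFun.mapLin_comp (etaAt q hq V) g 0 x).trans (FFun.mapLin_congr (eta_natural q hq g).symm 0 x)).trans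
      (FFun.mapLin_comp ((DCoh.tensorBi.obj (ptMod q hq)).map g) (etaAt q hq Q) 0 x).symm)
    (finrank_twist_lt k hN q hq t₁ (hz₁ q hq hqZ.1))
  exact ⟨key.1, fun hlt => key.2 (hz₂ q hq hqZ.2 hlt)⟩

/-- Twisting up by a general point lowers a nonzero `h¹`. -/
theorem exists_finite_h1_drop (hdim : topologicalKrullDim X = 1) {V : X.Modules} (hV : FlatMod.IsFinLocFree V)
    (h : Module.finrank k (Coh.HH X V 1) ≠ 0) :
    ∃ Z : Set X, Z.Finite ∧ ∀ (q : X) (hq : IsClosed ({q} : Set X)), q ∉ Z →
      ∀ (W : X.Modules), FlatMod.IsFinLocFree W → ((DCoh.tensorBi.obj (ptMod q hq)).obj W ≅ V) →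
        Module.finrank k (Coh.HH X W 1) < Module.finrank k (Coh.HH X V 1) := by
  haveI := CurveCohLib.isNoetherian_of_proper (k := k) (X := X)
  obtain ⟨ω, μ, hω⟩ := CurveDuality.exists_isDualizing k hdim
  obtain ⟨φ, hφ⟩ : ∃ φ : V ⟶ ω, φ ≠ 0 := by
    by_contra hc
    push Not at hc
    haveI := (CurveDuality.subsingleton_HH_one_iff k hω hdim hV).2 hc
    exact h Module.finrank_zero_of_subsingleton
  obtain ⟨Z, hZ, hsur⟩ := exists_finite_nonsurj k hdim hV hω.inv φ hφ
  refine ⟨Z, hZ, fun q hq hqZ W hW e => ?_⟩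
  obtain ⟨π, w, hS⟩ := shortExact_eta q hq hW
  haveI : Mono (etaAt q hq W) := hS.mono_f
  let f : V ⟶ W := e.inv ≫ etaAt q hq W
  haveI : Mono f := inferInstance
  have hWc := coh_of_free k hW
  have hVc := coh_of_free k hV
  have hr : rk (cokernel f) = 0 := by
    have h1 := rk_add_coh k _ _ _ (shortExact_cokernel_of_mono f) hWc
    have h2 := (CurveDuality.dg_tensor_line k hdim (CurvePoint.isInvertible_ptMod q hq k hdim) hW).1
    rw [rk_congr e] at h2
    omega
  have hfs := CurveCohLib.Nonspecial.surjective_mapLin k hdim hVc hWc f hr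
  haveI := CurveCohLib.finite_HH (k := k) hVc 1
  haveI := CurveCohLib.finite_HH (k := k) hWc 1
  refine lt_of_le_of_ne (LinearMap.finrank_le_finrank_of_surjective hfs) fun heq => ?_
  have hfi : Function.Injective (mapLin k f 1) :=
    (LinearMap.injective_iff_surjective_of_finrank_eq_finrank heq.symm).2 hfs
  let E := LinearEquiv.ofBijective (mapLin k f 1) ⟨hfi, hfs⟩
  obtain ⟨φ', hφ'⟩ := CurveDuality.exists_rep k hω hdim _ W hW rfl (μ ∘ₗ mapLin k φ 1 ∘ₗ E.symm.toLinearMap)
  have hfac : φ = f ≫ φ' := by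
    by_contra hne
    refine hω.ne (LinearMap.ext fun y => ?_)
    obtain ⟨x, rfl⟩ := CurveDuality.surjective_of_ne_zero k hω hdim hV (φ - f ≫ φ') (sub_ne_zero.2 hne) y
    have h1 := hφ' (mapLin k f 1 x)
    simp only [LinearMap.comp_apply, LinearEquiv.coe_coe] at h1
    rw [show E.symm (mapLin k f 1 x) = x from E.symm_apply_apply x, ← FFun.mapLin_comp] at h1
    rw [sub_eq_add_neg, CurveDuality.mapLin_add, CurveDuality.mapLin_neg, map_add, map_neg, h1]
    simp [f, FFun.mapLin_comp]
  refine not_surjective q hq k hω.inv (e.inv ≫ (DCoh.tensorBi.obj (ptMod q hq)).map φ') ?_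
  rw [Category.assoc, eta_natural, ← Category.assoc]
  show Function.Surjective ((DerSch.stalkFunctor X q).map (f ≫ φ'))
  rw [← hfac]
  exact hsur q hqZ

end Groth.Agent.ThetaRankTwo
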