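import Groth.Agent.ThetaRankTwo.Drop
import Groth.Agent.SSTwist.Main
import Groth.Agent.CurveCohLib.RankTwo

/-!
A semistable bundle of rank two and degree zero has a twist in degree `g - 1` without sections.
-/

set_option linter.style.haveILetI false
set_option linter.unusedSectionVars false
set_option backward.isDefEq.respectTransparency false
set_option backward.isDefEq.respectTransparency.types false
set_option synthInstance.maxHeartbeats 100000

noncomputable section

universe u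

open CategoryTheory CategoryTheory.Limits AlgebraicGeometry TopologicalSpace Opposite
open Groth.Agent.PnCoh.Finite (mapLin)

namespace Groth.Agent.ThetaRankTwo

open Groth.Agent.CurveBundle Groth.Agent.CurveSlope Groth.Agent.CurveStable Groth.Agent.CurveSpecial
open Groth.Agent.CurvePoint (ptMod ptIdeal)

variable {X : Scheme.{u}} (k : Type u) [Field k] [IsAlgClosed k] [X.Over (Spec (CommRingCat.of k))]
  [IsIntegral X] [IsProper (X ↘ Spec (CommRingCat.of k))] [Smooth (X ↘ Spec (CommRingCat.of k))]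
  (hdim : topologicalKrullDim X = 1)

include hdim in
/-- A bundle with a section has a saturated line subbundle with a section. -/
theorem exists_line_with_section {V : X.Modules} (hV : FlatMod.IsFinLocFree V)
    (h : Module.finrank k (Coh.HH X V 0) ≠ 0) :
    ∃ (N Q : X.Modules) (f : N ⟶ V) (g : V ⟶ Q) (w : f ≫ g = 0), (ShortComplex.mk f g w).ShortExact ∧
      PicF.IsInvertible N ∧ FlatMod.IsFinLocFree Q ∧ rk V = 1 + rk Q ∧ dg k V = dg k N + dg k Q ∧
      Module.finrank k (Coh.HH X N 0) ≠ 0 := by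
  haveI := CurveCohLib.isNoetherian_of_proper (k := k) (X := X)
  obtain ⟨s, hs⟩ := CurveRR.exists_hom_ne_zero k h
  have hO1 := InvEnd.isFinLocFreeOfRank_one (CurveDeg.isInvertible_structureModule (X := X))
  have hOf := isFinLocFree_of_rank hO1
  haveI := CurveSection.mono_of_ne_zero k hdim.le hOf (rk_eq hO1) hV s hs
  obtain ⟨M₀, j₀, hj₀, -, hrM₀, hmax₀⟩ := exists_max_sub k hdim.le hV (a := 1) ⟨_, s, inferInstance, hOf, rk_eq hO1⟩
  obtain ⟨d, ⟨N, f, hf, hN, hrN, ⟨l, hl⟩, rfl⟩, hd⟩ := Int.exists_greatest_of_bdd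
    (P := fun d => ∃ (F : X.Modules) (i : F ⟶ V), Mono i ∧ FlatMod.IsFinLocFree F ∧ rk F = 1 ∧
      (∃ l : Coh.structureModule X ⟶ F, l ≫ i = s) ∧ dg k F = d)
    ⟨dg k M₀, fun d ⟨F, i, hi, hF, hr, _, hd⟩ => hd ▸ hmax₀ F i hi hF hr⟩
    ⟨_, _, s, inferInstance, hOf, rk_eq hO1, ⟨𝟙 _, Category.id_comp s⟩, rfl⟩
  haveI := hf
  have hNc := coh_of_free k hN
  have hVc := coh_of_free k hV
  have hQc : Coh.IsCoh (cokernel f) := QCoh.isCoh_cokernel hNc.1 hVc f
  have hS := shortExact_cokernel_of_mono f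
  have hQ := CurveSection.isFinLocFree_of_max_over k hdim.le f (cokernel.π f) _ hS hNc hV hQc
    fun G g hg hG hrG hfac => by
      obtain ⟨l', hl'⟩ := hfac
      exact hd _ ⟨G, g, hg, hG, hrG.trans hrN, ⟨l ≫ l', by rw [Category.assoc, hl', hl]⟩, rfl⟩
  have hl0 : l ≠ 0 := fun h0 => hs (by rw [← hl, h0, zero_comp])
  have hN1 := CurveDuality.isInvertible_of_rank_one (hrN ▸ isFinLocFreeOfRank_rk hN)
  refine ⟨N, _, f, cokernel.π f, _, hS, hN1, hQ, by rw [rk_add_coh k _ _ _ hS hVc, hrN],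
    dg_add k _ _ _ hS hNc hVc hQc, fun h0 => ?_⟩
  haveI := CurveCohLib.finite_HH (k := k) hNc 0
  haveI := (Module.finrank_zero_iff (R := k)).1 h0
  exact hl0 (CurveCohLib.RankTwo.hom_eq_zero l)

include hdim in
set_option maxHeartbeats 1600000 in
/-- The degree zero twist lowering the number of sections. -/
theorem exists_twist_h0_lt {V : X.Modules} (hV : FlatMod.IsFinLocFree V) (hr : rk V = 2)
    (hd : dg k V = 2 * ((Curv2.genus k X : ℤ) - 1))
    (hss : ∀ (G : X.Modules) (i : G ⟶ V), Mono i → FlatMod.IsFinLocFree G →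
      dg k G * (rk V : ℤ) ≤ dg k V * (rk G : ℤ))
    (h : Module.finrank k (Coh.HH X V 0) ≠ 0) :
    ∃ D : X.Modules, PicF.IsInvertible D ∧ Curv2.deg k X D 1 = 0 ∧
      Module.finrank k (Coh.HH X ((DCoh.tensorBi.obj D).obj V) 0) < Module.finrank k (Coh.HH X V 0) := by
  haveI := CurveCohLib.isNoetherian_of_proper (k := k) (X := X)
  obtain ⟨N, Q, f, g, w, hS, hN, hQ, hrQ, hdQ, hN0⟩ := exists_line_with_section k hdim hV h
  haveI : Mono f := hS.mono_f
  have hN1 := InvEnd.isFinLocFreeOfRank_one hN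
  have hNf := isFinLocFree_of_rank hN1
  have hQ1 : PicF.IsInvertible Q :=
    CurveDuality.isInvertible_of_rank_one ((show rk Q = 1 by omega) ▸ isFinLocFreeOfRank_rk hQ)
  have hχ : ∀ {W : X.Modules}, FlatMod.IsFinLocFree W → (Module.finrank k (Coh.HH X W 0) : ℤ) -
      Module.finrank k (Coh.HH X W 1) = dg k W + (rk W : ℤ) * (1 - Curv2.genus k X) := fun hW => by
    rw [← CurveRR.euler_eq_h0_sub_h1 k hdim.le (coh_of_free k hW).1, SSTwist.euler_eq_dg k hdim]
  have hVχ := hχ hV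
  have hNχ := hχ hNf
  have hdN := hss N f inferInstance hNf
  rw [hr, hd, rk_eq hN1] at hdN
  rw [hr, hd] at hVχ
  rw [rk_eq hN1] at hNχ
  push_cast at hdN hVχ hNχ
  obtain ⟨Z₁, hZ₁, hz₁⟩ := exists_finite_h1_drop k hdim hV (by omega)
  obtain ⟨Z₂, hZ₂, hz₂⟩ := exists_finite_h1_drop k hdim hNf (by omega)
  obtain ⟨p, hp, hpZ⟩ := CurveTwist.exists_closed_notMem k hdim (hZ₁.union hZ₂)
  rw [Set.mem_union, not_or] at hpZ
  have hP := CurvePoint.isInvertible_ptMod p hp k hdim
  obtain ⟨Dp, hDp, hdDp, ⟨ep⟩⟩ := CurveDuality.exists_inverse_deg k hdim hP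
  rw [CurvePoint.deg_ptMod p hp k] at hdDp
  have hDf := isFinLocFree_of_rank (InvEnd.isFinLocFreeOfRank_one hDp)
  let W := (DCoh.tensorBi.obj Dp).obj V
  let N' := (DCoh.tensorBi.obj Dp).obj N
  have hWf : FlatMod.IsFinLocFree W := KFlatLib.isFinLocFree_tensor hDf hV
  have hN'f : FlatMod.IsFinLocFree N' := KFlatLib.isFinLocFree_tensor hDf hNf
  obtain ⟨hrW, hdW⟩ := CurveDuality.dg_tensor_line k hdim hDp hV
  obtain ⟨hrN', hdN'⟩ := CurveDuality.dg_tensor_line k hdim hDp hNf
  have h1W := hz₁ p hp hpZ.1 W hWf ((CurveRR.cancelIso ep).app V)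
  have h1N := hz₂ p hp hpZ.2 N' hN'f ((CurveRR.cancelIso ep).app N)
  have hWχ := hχ hWf
  have hN'χ := hχ hN'f
  rw [hrW, hdW, hr, hd, hdDp] at hWχ
  rw [hrN', hdN', rk_eq hN1, hdDp] at hN'χ
  push_cast at hWχ hN'χ
  have hle : Module.finrank k (Coh.HH X N 0) ≤ Module.finrank k (Coh.HH X N' 0) := by
    haveI := CurveCohLib.finite_HH (k := k) (coh_of_free k hN'f) 0
    refine ((CurveCohLib.hhEquiv (k := k) ((CurveRR.cancelIso ep).app N) 0).finrank_eq.symm.le).trans ?_
    exact LinearMap.finrank_le_finrank_of_injective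
      (show Function.Injective (mapLin k (etaAt p hp N') 0) from fun a b => injective_eta p hp k hN'f a b)
  have hNV : Module.finrank k (Coh.HH X N 0) ≤ Module.finrank k (Coh.HH X V 0) := by
    haveI := CurveCohLib.finite_HH (k := k) (coh_of_free k hV) 0
    exact LinearMap.finrank_le_finrank_of_injective (CurveCohLib.mapLin_f_zero_injective k hS)
  have hS' := CurveTensor.shortExact_tensor hDf f g w hS
  obtain ⟨Z₃, hZ₃, hz₃⟩ := exists_finite_drop k hdim _ _ _ hS' (InvX.isInvertible_tensorMod hDp hN) hWf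
    (InvX.isInvertible_tensorMod hDp hQ1) (show Module.finrank k (Coh.HH X N' 0) ≠ 0 by omega)
  obtain ⟨q, hq, hqZ⟩ := CurveTwist.exists_closed_notMem k hdim hZ₃
  obtain ⟨h₁, h₂⟩ := hz₃ q hq hqZ
  change Module.finrank k (Coh.HH X N' 0) < Module.finrank k (Coh.HH X W 0) → _ at h₂
  change _ ≤ Module.finrank k (Coh.HH X W 0) at h₁
  have hPq := CurvePoint.isInvertible_ptMod q hq k hdim
  refine ⟨(DCoh.tensorBi.obj (ptMod q hq)).obj Dp, InvX.isInvertible_tensorMod hPq hDp, ?_, ?_⟩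
  · rw [CurveRR.deg_tensor k hdim hPq hDp, CurvePoint.deg_ptMod q hq k, hdDp]
    ring
  · rw [← (CurveCohLib.hhEquiv (k := k) ((CurveRR.tensorCompIso (ptMod q hq) Dp).app V) 0).finrank_eq]
    show Module.finrank k (Coh.HH X ((DCoh.tensorBi.obj (ptMod q hq)).obj W) 0) < _
    dsimp only [W, N'] at *
    omega

include hdim in
/-- Iterating. -/
theorem exists_twist_h0_zero : ∀ (h : ℕ) (V : X.Modules), FlatMod.IsFinLocFree V → rk V = 2 →
    dg k V = 2 * ((Curv2.genus k X : ℤ) - 1) →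
    (∀ (G : X.Modules) (i : G ⟶ V), Mono i → FlatMod.IsFinLocFree G →
      dg k G * (rk V : ℤ) ≤ dg k V * (rk G : ℤ)) →
    Module.finrank k (Coh.HH X V 0) = h →
    ∃ D : X.Modules, PicF.IsInvertible D ∧ Curv2.deg k X D 1 = 0 ∧
      Module.finrank k (Coh.HH X ((DCoh.tensorBi.obj D).obj V) 0) = 0 := by
  intro h
  induction h using Nat.strong_induction_on with
  | _ h ih =>
    intro V hV hr hd hss hh
    by_cases h0 : h = 0
    · refine ⟨_, CurveDeg.isInvertible_structureModule, CurveDeg.deg_structureModule k, ?_⟩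
      rw [(CurveCohLib.hhEquiv (k := k) (CurveTensor.structureTensorIso V) 0).finrank_eq, hh, h0]
    · obtain ⟨D, hD, hdD, hlt⟩ := exists_twist_h0_lt k hdim hV hr hd hss (by omega)
      have hVD := KFlatLib.isFinLocFree_tensor (isFinLocFree_of_rank (InvEnd.isFinLocFreeOfRank_one hD)) hV
      obtain ⟨hr', hd'⟩ := CurveDuality.dg_tensor_line k hdim hD hV
      rw [hdD, mul_zero, add_zero] at hd'
      obtain ⟨D', hD', hdD', h'⟩ := ih _ (hh ▸ hlt) _ hVD (hr'.trans hr) (hd'.trans hd)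
        (SSTwist.ss_twist k hdim hV hD hss) rfl
      refine ⟨(DCoh.tensorBi.obj D').obj D, InvX.isInvertible_tensorMod hD' hD, ?_, ?_⟩
      · rw [CurveRR.deg_tensor k hdim hD' hD, hdD, hdD', add_zero]
      · rw [← (CurveCohLib.hhEquiv (k := k) ((CurveRR.tensorCompIso D' D).app V) 0).finrank_eq]
        exact h'

end Groth.Agent.ThetaRankTwo
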